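import Groth.Agent.RTrivLib.Link
import Groth.Agent.ChowLib.Segre

/-!
# Direct R-links from lines in affine and projective spaces
-/

set_option autoImplicit false
universe u

open CategoryTheory CategoryTheory.Limits AlgebraicGeometry TopologicalSpace REq ChowLib

noncomputable section

namespace REqLineLib

variable {k : Type u} [Field k] {X Y : Scheme.{u}} {f : X ⟶ Spec (CommRingCat.of k)}
  {g : Y ⟶ Spec (CommRingCat.of k)} {K : Type u} [Field K] [Algebra k K]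

/-- A direct link from any open immersion into the projective line. -/
theorem elemLink_of_openImmersion {W : Scheme.{u}} (e : W ⟶ P1K K) [IsOpenImmersion e] (h : W ⟶ X)
    (hh : h ≫ f = e ≫ P1K.toSpec K ≫ specMap k K) (a b : Spec (CommRingCat.of K) ⟶ W)
    (ha : a ≫ e ≫ P1K.toSpec K = 𝟙 _) (hb : b ≫ e ≫ P1K.toSpec K = 𝟙 _)
    (A B : Pts f K) (hA : a ≫ h = A.1) (hB : b ≫ h = B.1) : ElemLink f K A B := by
  let φ := e.isoOpensRange
  have hφ : φ.inv ≫ e = e.opensRange.ι := Scheme.Hom.isoOpensRange_inv_comp e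
  refine ⟨e.opensRange, φ.inv ≫ h, a ≫ φ.hom, b ≫ φ.hom, ?_, ?_, ?_, ?_, ?_⟩
  · rw [Category.assoc, hh, reassoc_of% hφ]
  · rw [← hφ]
    simpa using ha
  · rw [← hφ]
    simpa using hb
  · simpa using hA
  · simpa using hB

/-- Links restrict to an open containing both points. -/
theorem elemLink_restrict (V : X.Opens) (A B : Pts (V.ι ≫ f) K) (A' B' : Pts f K)
    (hA : A.1 ≫ V.ι = A'.1) (hB : B.1 ≫ V.ι = B'.1) (h : ElemLink f K A' B') :
    ElemLink (V.ι ≫ f) K A B := by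
  obtain ⟨U, h, a, b, hh, ha, hb, hA', hB'⟩ := h
  let W : (U : Scheme.{u}).Opens := h ⁻¹ᵁ V
  have mem : ∀ (a : Spec (CommRingCat.of K) ⟶ (U : Scheme.{u})) (P : Pts (V.ι ≫ f) K), a ≫ h = P.1 ≫ V.ι →
      Set.range a ⊆ Set.range W.ι := by
    rintro a P e _ ⟨z, rfl⟩
    rw [Scheme.Opens.range_ι]
    show h (a z) ∈ V
    rw [← Scheme.Hom.comp_apply, e]
    exact (P.1 z).2
  have ea : a ≫ h = A.1 ≫ V.ι := hA'.trans hA.symm
  have eb : b ≫ h = B.1 ≫ V.ι := hB'.trans hB.symm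
  let a' := IsOpenImmersion.lift W.ι a (mem a A ea)
  let b' := IsOpenImmersion.lift W.ι b (mem b B eb)
  have ha' : a' ≫ W.ι = a := IsOpenImmersion.lift_fac _ _ _
  have hb' : b' ≫ W.ι = b := IsOpenImmersion.lift_fac _ _ _
  have hr : h.resLE V W le_rfl ≫ V.ι = W.ι ≫ h := Scheme.Hom.resLE_comp_ι _ _
  refine elemLink_of_openImmersion (W.ι ≫ U.ι) (h.resLE V W le_rfl) ?_ a' b' ?_ ?_ A B ?_ ?_
  · rw [reassoc_of% hr, hh, Category.assoc]
  · rw [Category.assoc, reassoc_of% ha', ha]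
  · rw [Category.assoc, reassoc_of% hb', hb]
  · rw [← cancel_mono V.ι, Category.assoc, hr, reassoc_of% ha', ea]
  · rw [← cancel_mono V.ι, Category.assoc, hr, reassoc_of% hb', eb]

/-- Links are preserved by morphisms. -/
theorem elemLink_map (m : X ⟶ Y) (hm : m ≫ g = f) (A B : Pts f K) (A' B' : Pts g K)
    (hA : A.1 ≫ m = A'.1) (hB : B.1 ≫ m = B'.1) (h : ElemLink f K A B) : ElemLink g K A' B' := by
  obtain ⟨U, h, a, b, hh, ha, hb, hA', hB'⟩ := h
  exact ⟨U, h ≫ m, a, b, by rw [Category.assoc, hm, hh], ha, hb,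
    by rw [reassoc_of% hA', hA], by rw [reassoc_of% hB', hB]⟩

variable (K)

/-- The affine line inside the projective line. -/
def Dp : (P1K K).Opens := toPZ 1 (Spec (CommRingCat.of K)) ⁻¹ᵁ Dplus 0

/-- Its structure morphism. -/
def π : (Dp K : Scheme.{u}) ⟶ Spec (CommRingCat.of K) := (Dp K).ι ≫ P1K.toSpec K

theorem exists_coord : ∃ (v : Fin 2 → Γ((Dp K : Scheme.{u}), ⊤)) (hu : IsUnit (v 0)),
    (Dp K).ι ≫ toPZ 1 (Spec (CommRingCat.of K)) = pt v 0 hu ∧ v 0 = 1 := by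
  refine exists_pt _ 0 ?_
  rw [Scheme.Hom.comp_preimage]
  exact preimage_ι_self (Dp K)

/-- The coordinate on the affine line. -/
def t : Γ((Dp K : Scheme.{u}), ⊤) := (exists_coord K).choose 1

theorem exists_point (c : Γ(Spec (CommRingCat.of K), ⊤)) :
    ∃ σ : Spec (CommRingCat.of K) ⟶ (Dp K : Scheme.{u}), σ ≫ π K = 𝟙 _ ∧ σ.appTop (t K) = c := by
  obtain ⟨hu, hv, hv0⟩ := (exists_coord K).choose_spec
  let w : Fin 2 → Γ(Spec (CommRingCat.of K), ⊤) := ![1, c]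
  have hw : IsUnit (w 0) := isUnit_one
  let s := poLift (pt w 0 hw) (𝟙 (Spec (CommRingCat.of K)))
  have hs : Set.range s ⊆ Set.range (Dp K).ι := by
    rintro _ ⟨z, rfl⟩
    rw [Scheme.Opens.range_ι]
    show (s ≫ toPZ 1 _) z ∈ Dplus 0
    rw [poLift_toPZ]
    have : z ∈ pt w 0 hw ⁻¹ᵁ Dplus 0 := by
      rw [pt_preimage, Scheme.basicOpen_of_isUnit _ hw]; trivial
    exact this
  let σ := IsOpenImmersion.lift (Dp K).ι s hs
  have hσ : σ ≫ (Dp K).ι = s := IsOpenImmersion.lift_fac _ _ _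
  refine ⟨σ, by simp [π, reassoc_of% hσ, s, P1K.toSpec], ?_⟩
  have h1 : σ ≫ pt (exists_coord K).choose 0 hu = pt w 0 hw := by
    rw [← hv, reassoc_of% hσ, poLift_toPZ]
  rw [comp_pt, pt_eq_iff_same] at h1
  have h2 := h1 1
  simp only [hv0, map_one, w, Matrix.cons_val_zero, Matrix.cons_val_one, mul_one] at h2
  exact h2

variable {K}

/-- Interpolation on the affine line. -/
def interp (a b : Γ(Spec (CommRingCat.of K), ⊤)) : Γ((Dp K : Scheme.{u}), ⊤) :=
  (π K).appTop a + t K * ((π K).appTop b - (π K).appTop a)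

theorem appTop_π (σ : Spec (CommRingCat.of K) ⟶ (Dp K : Scheme.{u})) (hσ : σ ≫ π K = 𝟙 _)
    (a : Γ(Spec (CommRingCat.of K), ⊤)) : σ.appTop ((π K).appTop a) = a := by
  have := congrArg (fun m => Scheme.Hom.appTop m a) hσ
  simpa using this

theorem appTop_interp (σ : Spec (CommRingCat.of K) ⟶ (Dp K : Scheme.{u})) (hσ : σ ≫ π K = 𝟙 _)
    (a b : Γ(Spec (CommRingCat.of K), ⊤)) :
    σ.appTop (interp a b) = a + σ.appTop (t K) * (b - a) := by
  simp only [interp, map_add, map_mul, map_sub, appTop_π σ hσ]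

/-- Scalars as global functions. -/
def scal (k K : Type u) [Field k] [Field K] [Algebra k K] : k →+* Γ(Spec (CommRingCat.of K), ⊤) :=
  (Scheme.ΓSpecIso (CommRingCat.of K)).inv.hom.comp (algebraMap k K)

theorem toSpecOf_scal : toSpecOf (scal k K) = specMap k K := by
  simp only [toSpecOf, scal, CommRingCat.ofHom_comp, Spec.map_comp, CommRingCat.ofHom_hom]
  rw [← Category.assoc, ← SpecMap_ΓSpecIso_hom, ← Spec.map_comp, Iso.inv_hom_id, Spec.map_id, Category.id_comp]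

theorem toSpecOf_comp {A B : Type u} [CommRing A] [CommRing B] {Y : Scheme.{u}} (φ : B →+* Γ(Y, ⊤))
    (m : A →+* B) : toSpecOf φ ≫ Spec.map (CommRingCat.ofHom m) = toSpecOf (φ.comp m) := by
  simp only [toSpecOf, CommRingCat.ofHom_comp, Spec.map_comp, Category.assoc]

/-- Any two points of an open of affine space are directly linked in it. -/
theorem elemLink_affine {n : ℕ} (V : (Spec (CommRingCat.of (MvPolynomial (Fin n) k))).Opens)
    (A B : Pts (V.ι ≫ Spec.map (CommRingCat.ofHom (algebraMap k (MvPolynomial (Fin n) k)))) K) :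
    ElemLink (V.ι ≫ Spec.map (CommRingCat.ofHom (algebraMap k (MvPolynomial (Fin n) k)))) K A B := by
  refine elemLink_restrict V A B ⟨A.1 ≫ V.ι, by rw [Category.assoc]; exact A.2⟩
    ⟨B.1 ≫ V.ι, by rw [Category.assoc]; exact B.2⟩ rfl rfl ?_
  obtain ⟨ψA, hψA⟩ := toSpecOf_surjective (A.1 ≫ V.ι)
  obtain ⟨ψB, hψB⟩ := toSpecOf_surjective (B.1 ≫ V.ι)
  have hC : ∀ (P : Pts (V.ι ≫ Spec.map (CommRingCat.ofHom (algebraMap k (MvPolynomial (Fin n) k)))) K)
      (ψ : MvPolynomial (Fin n) k →+* Γ(Spec (CommRingCat.of K), ⊤)), toSpecOf ψ = P.1 ≫ V.ι →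
      ψ.comp MvPolynomial.C = scal k K := by
    intro P ψ e
    refine toSpecOf_injective ?_
    rw [toSpecOf_scal, ← P.2, ← reassoc_of% e, toSpecOf_comp]
    rfl
  let c : k →+* Γ((Dp K : Scheme.{u}), ⊤) := (π K).appTop.hom.comp (scal k K)
  let φ : MvPolynomial (Fin n) k →+* Γ((Dp K : Scheme.{u}), ⊤) :=
    MvPolynomial.eval₂Hom c fun l => interp (ψA (MvPolynomial.X l)) (ψB (MvPolynomial.X l))
  obtain ⟨σ₀, hσ₀, ht₀⟩ := exists_point K 0
  obtain ⟨σ₁, hσ₁, ht₁⟩ := exists_point K 1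
  refine elemLink_of_openImmersion (Dp K).ι (toSpecOf φ) ?_ σ₀ σ₁ hσ₀ hσ₁ _ _ ?_ ?_
  · rw [toSpecOf_comp]
    rw [show φ.comp (algebraMap k (MvPolynomial (Fin n) k)) = c from RingHom.ext fun x => by simp [φ]]
    show toSpecOf ((π K).appTop.hom.comp (scal k K)) = _
    rw [← comp_toSpecOf, toSpecOf_scal]
    exact Category.assoc _ _ _
  · show σ₀ ≫ toSpecOf φ = A.1 ≫ V.ι
    rw [comp_toSpecOf, ← hψA]
    congr 1
    refine MvPolynomial.ringHom_ext (fun x => ?_) fun l => ?_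
    · simp only [RingHom.comp_apply, φ, MvPolynomial.eval₂Hom_C, c]
      rw [appTop_π σ₀ hσ₀]
      exact (RingHom.congr_fun (hC A ψA hψA) x).symm
    · simp [φ, appTop_interp σ₀ hσ₀, ht₀]
  · show σ₁ ≫ toSpecOf φ = B.1 ≫ V.ι
    rw [comp_toSpecOf, ← hψB]
    congr 1
    refine MvPolynomial.ringHom_ext (fun x => ?_) fun l => ?_
    · simp only [RingHom.comp_apply, φ, MvPolynomial.eval₂Hom_C, c]
      rw [appTop_π σ₁ hσ₁]
      exact (RingHom.congr_fun (hC B ψB hψB) x).symm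
    · simp [φ, appTop_interp σ₁ hσ₁, ht₁]

/-- A morphism with prescribed homogeneous coordinates without common zero. -/
theorem exists_ptGlue {Y : Scheme.{u}} {n : ℕ} (v : Fin (n + 1) → Γ(Y, ⊤))
    (hv : ⨆ l, Y.basicOpen (v l) = ⊤) :
    ∃ g : Y ⟶ PZ.{u} n, ∀ {Y' : Scheme.{u}} (a : Y' ⟶ Y) (i : Fin (n + 1)) (hu : IsUnit (a.appTop (v i))),
      a ≫ g = pt (fun j => a.appTop (v j)) i hu := by
  let 𝒰 := Y.openCoverOfIsOpenCover (fun l => Y.basicOpen (v l)) (IsOpenCover.mk hv)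
  have hu : ∀ l : Fin (n + 1), IsUnit ((Y.basicOpen (v l)).ι.appTop (v l)) := fun l => by
    refine isUnit_of_basicOpen_eq_top ?_
    rw [← Scheme.preimage_basicOpen_top]
    exact preimage_ι_self _
  let gl : ∀ l : Fin (n + 1), (Y.basicOpen (v l) : Scheme.{u}) ⟶ PZ.{u} n := fun l =>
    pt (fun j => (Y.basicOpen (v l)).ι.appTop (v j)) l (hu l)
  have hgl : ∀ {Y' : Scheme.{u}} (b : Y' ⟶ Y) (l : Fin (n + 1)) (b' : Y' ⟶ (Y.basicOpen (v l) : Scheme.{u})),
      b' ≫ (Y.basicOpen (v l)).ι = b → ∃ h, b' ≫ gl l = pt (fun j => b.appTop (v j)) l h := by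
    intro Y' b l b' e
    subst e
    refine ⟨by simpa using (hu l).map b'.appTop.hom, ?_⟩
    simp only [gl]
    rw [comp_pt]
    simp
  let g : Y ⟶ PZ.{u} n := 𝒰.glueMorphisms gl fun l m => by
    obtain ⟨h₁, e₁⟩ := hgl (pullback.fst (Y.basicOpen (v l)).ι (Y.basicOpen (v m)).ι ≫ (Y.basicOpen (v l)).ι) l _ rfl
    obtain ⟨h₂, e₂⟩ := hgl (pullback.fst (Y.basicOpen (v l)).ι (Y.basicOpen (v m)).ι ≫ (Y.basicOpen (v l)).ι) m
      (pullback.snd (Y.basicOpen (v l)).ι (Y.basicOpen (v m)).ι) pullback.condition.symm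
    exact e₁.trans ((pt_change _ l m h₁ h₂).trans e₂.symm)
  refine ⟨g, fun {Y'} a i hai => ?_⟩
  have hr : Set.range a ⊆ Set.range (Y.basicOpen (v i)).ι := by
    rintro _ ⟨z, rfl⟩
    rw [Scheme.Opens.range_ι]
    show z ∈ a ⁻¹ᵁ Y.basicOpen (v i)
    rw [Scheme.preimage_basicOpen_top, Scheme.basicOpen_of_isUnit _ hai]
    trivial
  obtain ⟨h, e⟩ := hgl a i (IsOpenImmersion.lift _ a hr) (IsOpenImmersion.lift_fac _ _ _)
  rw [← e, show gl i = (Y.basicOpen (v i)).ι ≫ g from (𝒰.ι_glueMorphisms _ _ i).symm,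
    IsOpenImmersion.lift_fac_assoc]

/-- Any two points of an open of projective space are directly linked in it. -/
theorem elemLink_proj {n : ℕ} (V : (CohB1.ProjSpaceOver n (Spec (CommRingCat.of k))).Opens)
    (A B : Pts (V.ι ≫ CohB1.ProjSpaceOver.toBase n (Spec (CommRingCat.of k))) K) :
    ElemLink (V.ι ≫ CohB1.ProjSpaceOver.toBase n (Spec (CommRingCat.of k))) K A B := by
  refine elemLink_restrict V A B ⟨A.1 ≫ V.ι, by rw [Category.assoc]; exact A.2⟩
    ⟨B.1 ≫ V.ι, by rw [Category.assoc]; exact B.2⟩ rfl rfl ?_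
  have hvec : ∀ a : Spec (CommRingCat.of K) ⟶ PZ.{u} n, ∃ (i : Fin (n + 1)) (v : Fin (n + 1) → _) (hu : IsUnit (v i)),
      a = pt v i hu := by
    intro a
    obtain ⟨i, hi⟩ : ∃ i, a (IsLocalRing.closedPoint K) ∈ Dplus.{u} (n := n) i := by
      have : a (IsLocalRing.closedPoint K) ∈ ⨆ i, Dplus.{u} (n := n) i := by rw [iSup_Dplus]; trivial
      exact Opens.mem_iSup.1 this
    obtain ⟨v, hu, e, -⟩ := exists_pt a i (top_le_iff.1 fun z _ => by
      rw [show z = IsLocalRing.closedPoint K from Subsingleton.elim _ _]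
      exact hi)
    exact ⟨i, v, hu, e⟩
  obtain ⟨i, va, hia, ea⟩ := hvec ((A.1 ≫ V.ι) ≫ toPZ n _)
  obtain ⟨j, vb, hjb, eb⟩ := hvec ((B.1 ≫ V.ι) ≫ toPZ n _)
  let w : Fin (n + 1) → Γ((Dp K : Scheme.{u}), ⊤) := fun l => interp (va l) (vb l)
  let W : (Dp K : Scheme.{u}).Opens := ⨆ l, (Dp K : Scheme.{u}).basicOpen (w l)
  obtain ⟨g, hg⟩ := exists_ptGlue (fun l => W.ι.appTop (w l)) (by
    simp only [← Scheme.preimage_basicOpen_top]
    rw [← Scheme.Hom.preimage_iSup]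
    exact preimage_ι_self W)
  obtain ⟨σ₀, hσ₀, ht₀⟩ := exists_point K 0
  obtain ⟨σ₁, hσ₁, ht₁⟩ := exists_point K 1
  have h₀ : ∀ l, σ₀.appTop (w l) = va l := fun l => by simp [w, appTop_interp σ₀ hσ₀, ht₀]
  have h₁ : ∀ l, σ₁.appTop (w l) = vb l := fun l => by simp [w, appTop_interp σ₁ hσ₁, ht₁]
  have mem : ∀ (σ : Spec (CommRingCat.of K) ⟶ (Dp K : Scheme.{u})) (v : Fin (n + 1) → _) (i : Fin (n + 1)),
      (∀ l, σ.appTop (w l) = v l) → IsUnit (v i) → Set.range σ ⊆ Set.range W.ι := by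
    rintro σ v i e hu _ ⟨z, rfl⟩
    rw [Scheme.Opens.range_ι]
    refine Opens.mem_iSup.2 ⟨i, ?_⟩
    show z ∈ σ ⁻¹ᵁ (Dp K : Scheme.{u}).basicOpen (w i)
    rw [Scheme.preimage_basicOpen_top, Scheme.basicOpen_of_isUnit _ (by rw [e]; exact hu)]
    trivial
  let a' := IsOpenImmersion.lift W.ι σ₀ (mem σ₀ va i h₀ hia)
  let b' := IsOpenImmersion.lift W.ι σ₁ (mem σ₁ vb j h₁ hjb)
  have ha' : a' ≫ W.ι = σ₀ := IsOpenImmersion.lift_fac _ _ _
  have hb' : b' ≫ W.ι = σ₁ := IsOpenImmersion.lift_fac _ _ _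
  have hpt : ∀ (s : Spec (CommRingCat.of K) ⟶ (W : Scheme.{u})) (σ : Spec (CommRingCat.of K) ⟶ (Dp K : Scheme.{u}))
      (v : Fin (n + 1) → _) (i : Fin (n + 1)) (hu : IsUnit (v i)),
      s ≫ W.ι = σ → (∀ l, σ.appTop (w l) = v l) → s ≫ g = pt v i hu := by
    intro s σ v i hu e hl
    have he : (fun l => s.appTop (W.ι.appTop (w l))) = v := funext fun l => by
      rw [← hl, ← e]; simp
    have hu' : IsUnit (s.appTop (W.ι.appTop (w i))) := by rw [congrFun he i]; exact hu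
    rw [hg s i hu']
    congr 1
  refine elemLink_of_openImmersion (W.ι ≫ (Dp K).ι) (poLift g (W.ι ≫ π K ≫ specMap k K)) ?_ a' b'
    (by rw [Category.assoc, reassoc_of% ha']; exact hσ₀)
    (by rw [Category.assoc, reassoc_of% hb']; exact hσ₁) _ _ ?_ ?_
  · rw [poLift_toBase]
    simp [π]
  · refine po_ext ?_ ?_
    · rw [Category.assoc, poLift_toPZ, hpt a' σ₀ va i hia ha' h₀, ← ea]
    · rw [Category.assoc, poLift_toBase, reassoc_of% ha', reassoc_of% hσ₀]
      simpa only [Category.assoc] using A.2.symm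
  · refine po_ext ?_ ?_
    · rw [Category.assoc, poLift_toPZ, hpt b' σ₁ vb j hjb hb' h₁, ← eb]
    · rw [Category.assoc, poLift_toBase, reassoc_of% hb', reassoc_of% hσ₁]
      simpa only [Category.assoc] using B.2.symm

end REqLineLib
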