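import Groth.Agent.REqLineLib.Basic
import Mathlib.Algebra.MvPolynomial.Funext

/-!
# Almost R-triviality of retract rational schemes; R-equivalence and closed covers
-/

set_option autoImplicit false
universe u

open CategoryTheory CategoryTheory.Limits AlgebraicGeometry TopologicalSpace REq

noncomputable section

namespace REqLineLib

variable {k : Type u} [Field k] {X : Scheme.{u}} {f : X ⟶ Spec (CommRingCat.of k)}

/-- A nonempty open of affine space over an infinite field has a rational point. -/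
theorem exists_point_affine [Infinite k] {n : ℕ}
    (V : (Spec (CommRingCat.of (MvPolynomial (Fin n) k))).Opens) (hV : ∃ z, z ∈ V) :
    ∃ s : Spec (CommRingCat.of k) ⟶ (V : Scheme.{u}),
      s ≫ V.ι ≫ Spec.map (CommRingCat.ofHom (algebraMap k (MvPolynomial (Fin n) k))) = 𝟙 _ := by
  obtain ⟨z, hz⟩ := hV
  obtain ⟨_, ⟨p, rfl⟩, hzp, hpV⟩ :=
    PrimeSpectrum.isTopologicalBasis_basic_opens.exists_subset_of_mem_open hz V.2
  have hp : p ≠ 0 := fun h => by
    subst h
    exact hzp (Submodule.zero_mem _)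
  obtain ⟨x, hx⟩ : ∃ x : Fin n → k, MvPolynomial.eval x p ≠ 0 := by
    by_contra! h
    exact hp (MvPolynomial.funext fun x => by simpa using h x)
  let s := Spec.map (CommRingCat.ofHom (MvPolynomial.eval x))
  have hr : Set.range s ⊆ Set.range V.ι := by
    rintro _ ⟨w, rfl⟩
    rw [Scheme.Opens.range_ι]
    refine hpV ?_
    show MvPolynomial.eval x p ∉ w.asIdeal
    exact fun h => w.2.ne_top (Ideal.eq_top_of_isUnit_mem _ h (isUnit_iff_ne_zero.2 hx))
  refine ⟨IsOpenImmersion.lift V.ι s hr, ?_⟩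
  rw [IsOpenImmersion.lift_fac_assoc, ← Spec.map_comp, ← CommRingCat.ofHom_comp]
  rw [show (MvPolynomial.eval x).comp (algebraMap k (MvPolynomial (Fin n) k)) = RingHom.id k from
    RingHom.ext fun r => by simp, CommRingCat.ofHom_id, Spec.map_id]

variable {n : ℕ} (U : X.Opens)

theorem exists_point_retract [Infinite k] (hne : (U : Set X).Nonempty)
    (V : (Spec (CommRingCat.of (MvPolynomial (Fin n) k))).Opens)
    (a : (U : Scheme.{u}) ⟶ (V : Scheme.{u})) (b : (V : Scheme.{u}) ⟶ (U : Scheme.{u}))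
    (hb : b ≫ U.ι ≫ f = V.ι ≫ Spec.map (CommRingCat.ofHom (algebraMap k (MvPolynomial (Fin n) k))))
    (K : Type u) [Field K] [Algebra k K] : ∃ A : Pts f K, InOpen f U A := by
  obtain ⟨x, hx⟩ := hne
  obtain ⟨s, hs⟩ := exists_point_affine V ⟨_, (a ⟨x, hx⟩).2⟩
  refine ⟨⟨specMap k K ≫ s ≫ b ≫ U.ι, ?_⟩, ?_⟩
  · simp only [Category.assoc, hb, hs, Category.comp_id]
  · rintro _ ⟨w, rfl⟩
    exact ((specMap k K ≫ s ≫ b) w).2

theorem rEquiv_of_retract (V : (Spec (CommRingCat.of (MvPolynomial (Fin n) k))).Opens)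
    (a : (U : Scheme.{u}) ⟶ (V : Scheme.{u})) (b : (V : Scheme.{u}) ⟶ (U : Scheme.{u}))
    (hab : a ≫ b = 𝟙 (U : Scheme.{u}))
    (ha : a ≫ V.ι ≫ Spec.map (CommRingCat.ofHom (algebraMap k (MvPolynomial (Fin n) k))) = U.ι ≫ f)
    (hb : b ≫ U.ι ≫ f = V.ι ≫ Spec.map (CommRingCat.ofHom (algebraMap k (MvPolynomial (Fin n) k))))
    {K : Type u} [Field K] [Algebra k K] (A B : Pts f K) (hA : InOpen f U A) (hB : InOpen f U B) :
    REquiv f K A B := by
  have hr : ∀ {P : Pts f K}, InOpen f U P → Set.range P.1 ⊆ Set.range U.ι := fun h => by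
    rw [Scheme.Opens.range_ι]; exact h
  let A₀ := IsOpenImmersion.lift U.ι A.1 (hr hA)
  let B₀ := IsOpenImmersion.lift U.ι B.1 (hr hB)
  have hA₀ : A₀ ≫ U.ι = A.1 := IsOpenImmersion.lift_fac _ _ _
  have hB₀ : B₀ ≫ U.ι = B.1 := IsOpenImmersion.lift_fac _ _ _
  let g := V.ι ≫ Spec.map (CommRingCat.ofHom (algebraMap k (MvPolynomial (Fin n) k)))
  let A' : Pts g K := ⟨A₀ ≫ a, by rw [Category.assoc, ha, reassoc_of% hA₀]; exact A.2⟩
  let B' : Pts g K := ⟨B₀ ≫ a, by rw [Category.assoc, ha, reassoc_of% hB₀]; exact B.2⟩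
  exact Relation.EqvGen.rel _ _ (elemLink_map (b ≫ U.ι) (by rw [Category.assoc]; exact hb) A' B' A B
    (show (A₀ ≫ a) ≫ b ≫ U.ι = A.1 by rw [Category.assoc, reassoc_of% hab, hA₀])
    (show (B₀ ≫ a) ≫ b ≫ U.ι = B.1 by rw [Category.assoc, reassoc_of% hab, hB₀])
    (elemLink_affine V A' B'))

theorem not_rEquiv {Y : Scheme.{u}} {g : Y ⟶ Spec (CommRingCat.of k)} {K : Type u} [Field K] [Algebra k K]
    {V W : Set Y} (hV : IsClosed V) (hW : IsClosed W) (hVW : V ∪ W = Set.univ)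
    (hT : ∀ z : Pts g K, ¬ (Set.range z.1 ⊆ V ∩ W))
    (p q : Pts g K) (hp : Set.range p.1 ⊆ V) (hq : Set.range q.1 ⊆ W) : ¬ REquiv g K p q := by
  have step : ∀ {C D : Set Y}, IsClosed C → IsClosed D → C ∪ D = Set.univ →
      (∀ z : Pts g K, ¬ (Set.range z.1 ⊆ C ∩ D)) → ∀ {A B : Pts g K}, ElemLink g K A B →
      Set.range A.1 ⊆ C → Set.range B.1 ⊆ C := by
    intro C D hC hD hCD hT A B hl hA
    obtain ⟨U, h, a, b, -, -, -, ha, hb⟩ := hl
    haveI : IsIntegral (P1K K) := RTrivLib.isIntegral_P1K K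
    haveI : Nonempty (U : Scheme.{u}) := ⟨a (IsLocalRing.closedPoint K)⟩
    haveI : IsIntegral (U : Scheme.{u}) := isIntegral_of_isOpenImmersion U.ι
    have hcov : (Set.univ : Set (U : Scheme.{u})) ⊆ h ⁻¹' C ∪ h ⁻¹' D := by
      rw [← Set.preimage_union, hCD, Set.preimage_univ]
    rcases (isPreirreducible_iff_isClosed_union_isClosed.1
      PreirreducibleSpace.isPreirreducible_univ) (h ⁻¹' C) (h ⁻¹' D)
      (hC.preimage h.continuous) (hD.preimage h.continuous) hcov with h1 | h1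
    · rintro _ ⟨w, rfl⟩
      rw [← hb]
      exact h1 (Set.mem_univ (b w))
    · exfalso
      refine hT A ?_
      rintro _ ⟨w, rfl⟩
      refine ⟨hA ⟨w, rfl⟩, ?_⟩
      rw [← ha]
      exact h1 (Set.mem_univ (a w))
  have hsymm : ∀ {A B : Pts g K}, ElemLink g K A B → ElemLink g K B A := by
    rintro A B ⟨U, h, a, b, hh, ha, hb, hA, hB⟩
    exact ⟨U, h, b, a, hh, hb, ha, hB, hA⟩
  have key : ∀ {A B : Pts g K}, REquiv g K A B → (Set.range A.1 ⊆ V ↔ Set.range B.1 ⊆ V) := by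
    intro A B h
    induction h with
    | rel A B h => exact ⟨step hV hW hVW hT h, step hV hW hVW hT (hsymm h)⟩
    | refl A => exact Iff.rfl
    | symm A B _ ih => exact ih.symm
    | trans A B C _ _ ih₁ ih₂ => exact ih₁.trans ih₂
  exact fun h => hT q (Set.subset_inter ((key h).1 hp) hq)

end REqLineLib
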